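import Groth.Agent.FinMultLib.NormalEtale
import Groth.Agent.StrictHensBCLib.Integral
import Groth.Agent.CommAlgDim.Integral

/-!
# Base change of a henselian normal local algebra to the separable closure of its residue field
-/

set_option autoImplicit false
set_option linter.all false
set_option maxHeartbeats 1000000
set_option backward.isDefEq.respectTransparency false
set_option backward.isDefEq.respectTransparency.types false

universe u

open scoped TensorProduct
open Polynomial

noncomputable section

namespace HLocSepLib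

variable (k : Type u) [Field k] (R : Type u) [CommRing R] [Algebra k R] (K : Type u) [Field K] [Algebra k K]

/-- The inclusion of the level of an intermediate field. -/
def lev (L : IntermediateField k K) : (R ⊗[k] L) →ₐ[R] (R ⊗[k] K) :=
  Algebra.TensorProduct.map (AlgHom.id R R) L.val

theorem lev_injective (L : IntermediateField k K) : Function.Injective (lev k R K L) :=
  Module.Flat.lTensor_preserves_injective_linearMap (M := R) (L.val.toLinearMap) L.val.injective

theorem exists_lev [Algebra.IsAlgebraic k K] (t : R ⊗[k] K) :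
    ∃ L : IntermediateField k K, FiniteDimensional k L ∧ t ∈ (lev k R K L).range := by
  induction t using TensorProduct.induction_on with
  | zero => exact ⟨⊥, inferInstance, ⟨0, map_zero _⟩⟩
  | tmul r a =>
    exact ⟨IntermediateField.adjoin k {a},
      IntermediateField.adjoin.finiteDimensional (Algebra.IsAlgebraic.isAlgebraic a).isIntegral,
      ⟨r ⊗ₜ ⟨a, IntermediateField.mem_adjoin_simple_self k a⟩, rfl⟩⟩
  | add a b ha hb =>
    obtain ⟨L, hL, x, rfl⟩ := ha
    obtain ⟨L', hL', y, rfl⟩ := hb
    haveI := hL; haveI := hL'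
    refine ⟨L ⊔ L', inferInstance,
      Algebra.TensorProduct.map (AlgHom.id R R) (IntermediateField.inclusion (le_sup_left : L ≤ L ⊔ L')) x +
        Algebra.TensorProduct.map (AlgHom.id R R) (IntermediateField.inclusion (le_sup_right : L' ≤ L ⊔ L')) y, ?_⟩
    show (lev k R K (L ⊔ L')) _ = lev k R K L x + lev k R K L' y
    rw [map_add, lev, lev, lev, ← AlgHom.comp_apply, ← AlgHom.comp_apply, ← Algebra.TensorProduct.map_comp,
      ← Algebra.TensorProduct.map_comp]
    rfl

theorem range_mono {L L' : IntermediateField k K} (h : L ≤ L') : (lev k R K L).range ≤ (lev k R K L').range := by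
  rintro _ ⟨x, rfl⟩
  refine ⟨Algebra.TensorProduct.map (AlgHom.id R R) (IntermediateField.inclusion h) x, ?_⟩
  show lev k R K L' _ = lev k R K L x
  rw [lev, lev, ← AlgHom.comp_apply, ← Algebra.TensorProduct.map_comp]
  rfl

theorem exists_lev_finset [Algebra.IsAlgebraic k K] (s : Finset (R ⊗[k] K)) :
    ∃ L : IntermediateField k K, FiniteDimensional k L ∧ ∀ t ∈ s, t ∈ (lev k R K L).range := by
  classical
  induction s using Finset.induction with
  | empty => exact ⟨⊥, inferInstance, by simp⟩
  | insert a s _ ih =>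
    obtain ⟨L, hL, hs⟩ := ih
    obtain ⟨L', hL', ha⟩ := exists_lev k R K a
    haveI := hL; haveI := hL'
    refine ⟨L ⊔ L', inferInstance, fun t ht => ?_⟩
    rcases Finset.mem_insert.1 ht with rfl | ht
    · exact range_mono k R K le_sup_right ha
    · exact range_mono k R K le_sup_left (hs t ht)

/-- Integral elements of the fraction field which are defined over a normal subring lie in it. -/
theorem exists_of_lifts {T S : Type u} [CommRing T] [IsDomain T] [IsIntegrallyClosed T] [CommRing S] [IsDomain S]
    (g : T →+* S) (hg : Function.Injective g) (a b : T) (P : S[X]) (hP : P.Monic) (hlift : ∀ i, ∃ c, g c = P.coeff i)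
    (hPx : P.eval₂ (algebraMap S (FractionRing S)) (algebraMap S _ (g a) / algebraMap S _ (g b)) = 0) :
    ∃ y : S, algebraMap S (FractionRing S) y = algebraMap S _ (g a) / algebraMap S _ (g b) := by
  let F := FractionRing S
  let G := FractionRing T
  let j : T →+* F := (algebraMap S F).comp g
  have hj : Function.Injective j := (IsFractionRing.injective S F).comp hg
  let J : G →+* F := IsFractionRing.lift hj
  have hJ : ∀ t, J (algebraMap T G t) = j t := fun t => IsFractionRing.lift_algebraMap hj t
  obtain ⟨P', hP', -, hm⟩ := Polynomial.lifts_and_natDegree_eq_and_monic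
    ((Polynomial.lifts_iff_coeff_lifts _).2 hlift : P ∈ Polynomial.lifts g) hP
  let x' : G := algebraMap T G a / algebraMap T G b
  have hx' : J x' = algebraMap S F (g a) / algebraMap S F (g b) := by
    rw [map_div₀, hJ, hJ]; rfl
  have hint : IsIntegral T x' := ⟨P', hm, J.injective (by
    rw [Polynomial.hom_eval₂, map_zero, hx', ← hPx, ← hP', Polynomial.eval₂_map]
    congr 1
    exact RingHom.ext hJ)⟩
  obtain ⟨y, hy⟩ := (IsIntegrallyClosed.isIntegral_iff).1 hint
  exact ⟨g y, by rw [← hx', ← hy, hJ]; rfl⟩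

/-- Finite separable levels of a domain are normal domains. -/
theorem normal_level [IsDomain R] [IsIntegrallyClosed R] [IsDomain (R ⊗[k] K)] (L : Type u) [Field L] [Algebra k L]
    [Module.Finite k L] [Algebra.IsSeparable k L] (g : L →ₐ[k] K) :
    IsDomain (R ⊗[k] L) ∧ IsIntegrallyClosed (R ⊗[k] L) := by
  let G : (R ⊗[k] L) →ₐ[R] (R ⊗[k] K) := Algebra.TensorProduct.map (AlgHom.id R R) g
  have hG : Function.Injective G :=
    Module.Flat.lTensor_preserves_injective_linearMap (M := R) g.toLinearMap g.injective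
  haveI : IsDomain (R ⊗[k] L) := hG.isDomain G.toRingHom
  haveI : Algebra.FormallyEtale k L := Algebra.FormallyEtale.of_isSeparable k L
  haveI : Algebra.FinitePresentation k L := Algebra.FinitePresentation.of_finiteType.1 inferInstance
  haveI : Algebra.Etale k L := { }
  exact Groth.Agent.FinMult.isDomain_and_isIntegrallyClosed (R := R) (R ⊗[k] L) fun e he =>
    IsIdempotentElem.iff_eq_zero_or_one.1 he

theorem level_step [IsDomain R] [IsIntegrallyClosed R] [IsDomain (R ⊗[k] K)] (L : Type u) [Field L] [Algebra k L]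
    [Module.Finite k L] [Algebra.IsSeparable k L] (g : L →ₐ[k] K) (a b : R ⊗[k] K) (P : (R ⊗[k] K)[X]) (hP : P.Monic)
    (ha : a ∈ (Algebra.TensorProduct.map (AlgHom.id R R) g).range)
    (hb : b ∈ (Algebra.TensorProduct.map (AlgHom.id R R) g).range)
    (hc : ∀ i, P.coeff i ∈ (Algebra.TensorProduct.map (AlgHom.id R R) g).range)
    (hPx : P.eval₂ (algebraMap (R ⊗[k] K) (FractionRing (R ⊗[k] K)))
      (algebraMap (R ⊗[k] K) _ a / algebraMap (R ⊗[k] K) _ b) = 0) :
    ∃ y : R ⊗[k] K, algebraMap _ (FractionRing (R ⊗[k] K)) y =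
      algebraMap (R ⊗[k] K) _ a / algebraMap (R ⊗[k] K) _ b := by
  obtain ⟨a', rfl⟩ := ha
  obtain ⟨b', rfl⟩ := hb
  obtain ⟨h1, h2⟩ := normal_level k R K L g
  haveI := h1; haveI := h2
  exact exists_of_lifts (Algebra.TensorProduct.map (AlgHom.id R R) g).toRingHom
    (Module.Flat.lTensor_preserves_injective_linearMap (M := R) g.toLinearMap g.injective) a' b' P hP
    (fun i => hc i) hPx

theorem isIntegrallyClosed_tensor [IsDomain R] [IsIntegrallyClosed R] [Algebra.IsSeparable k K] [IsDomain (R ⊗[k] K)] :
    IsIntegrallyClosed (R ⊗[k] K) := by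
  classical
  refine (isIntegrallyClosed_iff (FractionRing (R ⊗[k] K))).2 fun {x} hx => ?_
  obtain ⟨P, hP, hPx⟩ := hx
  obtain ⟨a, b, hb, hab⟩ := IsFractionRing.div_surjective (A := R ⊗[k] K) x
  obtain ⟨L, hL, hs⟩ := exists_lev_finset k R K (insert a (insert b (P.coeffs)))
  haveI := hL
  haveI : Algebra.IsSeparable k L := inferInstance
  subst hab
  refine level_step k R K L L.val a b P hP (hs a (Finset.mem_insert_self _ _))
    (hs b (Finset.mem_insert_of_mem (Finset.mem_insert_self _ _))) (fun i => ?_) hPx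
  by_cases h : P.coeff i = 0
  · rw [h]; exact Subalgebra.zero_mem _
  · exact hs _ (Finset.mem_insert_of_mem (Finset.mem_insert_of_mem (Polynomial.coeff_mem_coeffs h)))

theorem henselian_tensor [IsDomain R] [HenselianLocalRing R]
    (hres : Function.Surjective (fun a : k => IsLocalRing.residue R (algebraMap k R a)))
    [Algebra.IsAlgebraic k K] [IsDomain (R ⊗[k] K)] :
    ∃ _ : HenselianLocalRing (R ⊗[k] K), ringKrullDim (R ⊗[k] K) = ringKrullDim R ∧
      Function.Surjective (fun a : K => IsLocalRing.residue (R ⊗[k] K)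
        ((Algebra.TensorProduct.includeRight : K →ₐ[k] R ⊗[k] K) a)) := by
  let T := R ⊗[k] K
  haveI : Algebra.IsIntegral k K := Algebra.IsAlgebraic.isIntegral
  haveI : Algebra.IsIntegral R T := inferInstance
  let I : Ideal T := (IsLocalRing.maximalIdeal R).map (algebraMap R T)
  let φ : K →+* T ⧸ I := (Ideal.Quotient.mk I).comp (Algebra.TensorProduct.includeRight : K →ₐ[k] T).toRingHom
  have hφ : Function.Surjective φ := by
    intro z
    obtain ⟨t, rfl⟩ := Ideal.Quotient.mk_surjective z
    induction t using TensorProduct.induction_on with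
    | zero => exact ⟨0, by rw [map_zero, map_zero]⟩
    | add a b ha hb =>
      obtain ⟨u, hu⟩ := ha
      obtain ⟨v, hv⟩ := hb
      exact ⟨u + v, by rw [map_add, map_add, hu, hv]⟩
    | tmul r a =>
      obtain ⟨c, hc⟩ := hres (IsLocalRing.residue R r)
      refine ⟨c • a, ?_⟩
      show Ideal.Quotient.mk I ((1 : R) ⊗ₜ[k] (c • a)) = Ideal.Quotient.mk I (r ⊗ₜ[k] a)
      rw [Ideal.Quotient.eq, ← TensorProduct.smul_tmul, ← TensorProduct.sub_tmul, Algebra.smul_def, mul_one]
      have hm : algebraMap k R c - r ∈ IsLocalRing.maximalIdeal R := by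
        rw [← IsLocalRing.residue_eq_zero_iff, map_sub, sub_eq_zero]
        exact hc
      have := I.mul_mem_right ((1 : R) ⊗ₜ[k] a) (Ideal.mem_map_of_mem (algebraMap R T) hm)
      have e : algebraMap R T (algebraMap k R c - r) * ((1 : R) ⊗ₜ[k] a) = (algebraMap k R c - r) ⊗ₜ[k] a := by
        show ((algebraMap k R c - r) ⊗ₜ[k] (1 : K)) * ((1 : R) ⊗ₜ[k] a) = _
        rw [Algebra.TensorProduct.tmul_mul_tmul, mul_one, one_mul]
      rwa [e] at this
  have hIM : ∀ M : Ideal T, M.IsMaximal → I ≤ M := fun M hM => by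
    rw [Ideal.map_le_iff_le_comap]
    haveI := hM
    rw [IsLocalRing.eq_maximalIdeal (Ideal.isMaximal_comap_of_isIntegral_of_isMaximal (R := R) M)]
  obtain ⟨M₀, hM₀⟩ := Ideal.exists_maximal T
  have hI : I ≠ ⊤ := fun h => hM₀.ne_top (top_le_iff.1 (h ▸ hIM M₀ hM₀))
  haveI : Nontrivial (T ⧸ I) := Ideal.Quotient.nontrivial_iff.2 hI
  have hImax : I.IsMaximal := Ideal.Quotient.maximal_of_isField _
    ((RingEquiv.ofBijective φ ⟨φ.injective, hφ⟩).symm.toMulEquiv.isField (Field.toIsField K))
  haveI : IsLocalRing T := IsLocalRing.of_unique_max_ideal ⟨I, hImax, fun M hM => (hImax.eq_of_le hM.ne_top (hIM M hM)).symm⟩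
  haveI := (StrictHensBCLib.henselianLocalRing_of_integral (A := R) T).1
  refine ⟨inferInstance, ?_, ?_⟩
  · refine CommAlgDim.ringKrullDim_eq_of_integral R T ?_
    exact Algebra.TensorProduct.includeLeft_injective (S := R) (algebraMap k K).injective
  · intro z
    obtain ⟨t, rfl⟩ := IsLocalRing.residue_surjective z
    obtain ⟨a, ha⟩ := hφ (Ideal.Quotient.mk I t)
    refine ⟨a, Ideal.Quotient.eq.2 ?_⟩
    rw [← IsLocalRing.eq_maximalIdeal hImax]
    exact Ideal.Quotient.eq.1 ha

end HLocSepLib
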